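import Mathlib.RingTheory.Flat.Basic
import Mathlib.RingTheory.Ideal.Quotient.Operations
import Mathlib.LinearAlgebra.TensorProduct.RightExactness
import Mathlib.RingTheory.Finiteness.Ideal
import Mathlib.Algebra.Module.Torsion.Basic

/-!
Formal glueing: `R → S` flat with `R/I = S/IS`; torsion modules are unchanged by base change.
-/

universe u

open TensorProduct

namespace Groth.Agent.FormalGlueH7

variable {R S : Type u} [CommRing R] [CommRing S] [Algebra R S] {I : Ideal R}

/-- `R/I → S/IS` is bijective. -/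
abbrev QBij (S : Type u) [CommRing S] [Algebra R S] (I : Ideal R) : Prop :=
  Function.Bijective (Ideal.quotientMap (I.map (algebraMap R S)) (algebraMap R S) Ideal.le_comap_map)

variable {M : Type u} [AddCommGroup M] [Module R M]

theorem exists_rep (hq : QBij S I) (s : S) : ∃ r : R, s - algebraMap R S r ∈ I.map (algebraMap R S) := by
  obtain ⟨q, hq'⟩ := hq.2 (Ideal.Quotient.mk _ s)
  obtain ⟨r, rfl⟩ := Ideal.Quotient.mk_surjective q
  rw [Ideal.quotientMap_mk, Ideal.Quotient.eq] at hq'
  exact ⟨r, by simpa using neg_mem hq'⟩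

theorem mem_of_mem_map (hq : QBij S I) {r : R} (h : algebraMap R S r ∈ I.map (algebraMap R S)) : r ∈ I :=
  Ideal.Quotient.eq_zero_iff_mem.1 ((injective_iff_map_eq_zero _).1 hq.1 (Ideal.Quotient.mk I r)
    (by rw [Ideal.quotientMap_mk]; exact Ideal.Quotient.eq_zero_iff_mem.2 h))

/-- The inverse of `M → S ⊗ M` when `I` kills `M`. -/
noncomputable def killedInv (hq : QBij S I) (hM : ∀ a ∈ I, ∀ m : M, a • m = 0) : S ⊗[R] M →ₗ[R] M :=
  TensorProduct.lift <| LinearMap.mk₂ R (fun s m => (exists_rep hq s).choose • m)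
    (fun s t m => by
      rw [← add_smul, ← sub_eq_zero, ← sub_smul]
      refine hM _ (mem_of_mem_map hq ?_) m
      rw [map_sub, map_add]
      have h1 := (exists_rep hq (s + t)).choose_spec
      have h2 := (exists_rep hq s).choose_spec
      have h3 := (exists_rep hq t).choose_spec
      have := sub_mem (add_mem h2 h3) h1
      ring_nf at this ⊢
      exact this)
    (fun c s m => by
      rw [← mul_smul, ← sub_eq_zero, ← sub_smul]
      refine hM _ (mem_of_mem_map hq ?_) m
      rw [map_sub, map_mul]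
      have h1 := (exists_rep hq (c • s)).choose_spec
      have h2 := (exists_rep hq s).choose_spec
      have := sub_mem (Ideal.mul_mem_left _ (algebraMap R S c) h2) h1
      rw [Algebra.smul_def] at this ⊢
      ring_nf at this ⊢
      exact this)
    (fun s m m' => smul_add _ _ _)
    (fun c s m => smul_comm _ _ _)

theorem killedInv_one_tmul (hq : QBij S I) (hM : ∀ a ∈ I, ∀ m : M, a • m = 0) (m : M) :
    killedInv hq hM ((1 : S) ⊗ₜ[R] m) = m := by
  simp only [killedInv, TensorProduct.lift.tmul, LinearMap.mk₂_apply]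
  conv_rhs => rw [← one_smul R m]
  rw [← sub_eq_zero, ← sub_smul]
  refine hM _ (mem_of_mem_map hq ?_) m
  rw [map_sub, map_one]
  simpa using neg_mem (exists_rep hq (1 : S)).choose_spec

theorem exists_rep_pow (hq : QBij S I) (n : ℕ) (s : S) :
    ∃ r : R, s - algebraMap R S r ∈ (I ^ n).map (algebraMap R S) := by
  induction n generalizing s with
  | zero => exact ⟨0, by rw [pow_zero, Ideal.one_eq_top, Ideal.map_top]; exact Submodule.mem_top⟩
  | succ n ih =>
    obtain ⟨r, hr⟩ := ih s
    have key : ∀ x ∈ (I ^ n).map (algebraMap R S), ∃ r : R, x - algebraMap R S r ∈ (I ^ (n + 1)).map (algebraMap R S) := by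
      intro x hx
      induction hx using Submodule.span_induction with
      | mem z hz =>
        obtain ⟨a, -, rfl⟩ := hz
        exact ⟨a, by simp⟩
      | zero => exact ⟨0, by simp⟩
      | add a b _ _ ha hb =>
        obtain ⟨r, hr⟩ := ha
        obtain ⟨r', hr'⟩ := hb
        exact ⟨r + r', by rw [map_add, add_sub_add_comm]; exact add_mem hr hr'⟩
      | smul c a ha' ha =>
        obtain ⟨r, hr⟩ := ha
        obtain ⟨t, ht⟩ := exists_rep hq c
        refine ⟨t * r, ?_⟩
        have h1 : (c - algebraMap R S t) * a ∈ (I ^ (n + 1)).map (algebraMap R S) := by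
          rw [pow_succ', Ideal.map_mul]
          exact Ideal.mul_mem_mul ht ha'
        have h2 := add_mem h1 (Ideal.mul_mem_left _ (algebraMap R S t) hr)
        rw [smul_eq_mul, map_mul]
        ring_nf at h2 ⊢
        exact h2
    obtain ⟨t, ht⟩ := key _ hr
    exact ⟨r + t, by rw [map_add, ← sub_sub]; exact ht⟩

theorem tmul_eq_zero_of_mem {n : ℕ} {m : M} (hm : ∀ a ∈ I ^ n, a • m = 0) {s : S}
    (hs : s ∈ (I ^ n).map (algebraMap R S)) : s ⊗ₜ[R] m = 0 := by
  induction hs using Submodule.span_induction with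
  | mem z hz =>
    obtain ⟨a, ha, rfl⟩ := hz
    rw [Algebra.algebraMap_eq_smul_one, TensorProduct.smul_tmul, hm a ha, TensorProduct.tmul_zero]
  | zero => rw [TensorProduct.zero_tmul]
  | add a b _ _ ha hb => rw [TensorProduct.add_tmul, ha, hb, add_zero]
  | smul c a _ ha => rw [← TensorProduct.smul_tmul', ha, smul_zero]

theorem mk_surjective_of_torsion (hq : QBij S I) (hM : ∀ m : M, ∃ n, ∀ a ∈ I ^ n, a • m = 0) :
    Function.Surjective (TensorProduct.mk R S M 1) := by
  intro x
  induction x using TensorProduct.induction_on with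
  | zero => exact ⟨0, map_zero _⟩
  | tmul s m =>
    obtain ⟨n, hn⟩ := hM m
    obtain ⟨r, hr⟩ := exists_rep_pow hq n s
    refine ⟨r • m, ?_⟩
    have := tmul_eq_zero_of_mem hn hr
    rw [TensorProduct.sub_tmul, sub_eq_zero] at this
    rw [this, TensorProduct.mk_apply, ← TensorProduct.smul_tmul, ← Algebra.algebraMap_eq_smul_one]
  | add a b ha hb =>
    obtain ⟨m, rfl⟩ := ha
    obtain ⟨m', rfl⟩ := hb
    exact ⟨m + m', map_add _ _ _⟩

/-- A torsion element killed in `S ⊗ M` is zero. -/
theorem eq_zero_of_torsion [Module.Flat R S] (hq : QBij S I) {m : M} {n : ℕ}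
    (hn : ∀ a ∈ I ^ n, a • m = 0) (h1 : (1 : S) ⊗ₜ[R] m = 0) : m = 0 := by
  induction n generalizing m with
  | zero => simpa using hn 1 (by simp)
  | succ n ih =>
    refine ih (fun a ha => ?_) h1
    let N : Submodule R M := Submodule.torsionBySet R M (I : Set R)
    have hmem : a • m ∈ N := by
      refine (Submodule.mem_torsionBySet_iff _ _).2 fun b => ?_
      rw [smul_smul]
      exact hn _ (by rw [pow_succ']; exact Ideal.mul_mem_mul b.2 ha)
    have hN : ∀ b ∈ I, ∀ x : N, b • x = 0 := fun b hb x =>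
      Subtype.ext ((Submodule.mem_torsionBySet_iff _ _).1 x.2 ⟨b, hb⟩)
    have h2 : (1 : S) ⊗ₜ[R] (⟨a • m, hmem⟩ : N) = 0 := by
      apply Module.Flat.lTensor_preserves_injective_linearMap (M := S) N.subtype N.injective_subtype
      rw [map_zero, LinearMap.lTensor_tmul]
      show (1 : S) ⊗ₜ[R] (a • m) = 0
      rw [TensorProduct.tmul_smul, h1, smul_zero]
    have := killedInv_one_tmul hq hN ⟨a • m, hmem⟩
    rw [h2, map_zero] at this
    exact (congrArg Subtype.val this).symm

theorem mk_bijective_of_torsion [Module.Flat R S] (hq : QBij S I)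
    (hM : ∀ m : M, ∃ n, ∀ a ∈ I ^ n, a • m = 0) : Function.Bijective (TensorProduct.mk R S M 1) := by
  refine ⟨(injective_iff_map_eq_zero _).2 fun m hm => ?_, mk_surjective_of_torsion hq hM⟩
  obtain ⟨n, hn⟩ := hM m
  exact eq_zero_of_torsion hq hn hm

/-- The glueing map: a module with a map to `N` and a map to `M'` which is a base change. -/
theorem glue_lift_bijective [Module.Flat R S] (hq : QBij S I)
    {N : Type u} [AddCommGroup N] [Module R N]
    {M' : Type u} [AddCommGroup M'] [Module R M'] [Module S M'] [IsScalarTower R S M']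
    (φ : M' →ₗ[S] S ⊗[R] N) (hker : ∀ x : M', φ x = 0 → ∃ n : ℕ, ∀ a ∈ I ^ n, a • x = 0)
    (hcoker : ∀ y : S ⊗[R] N, ∃ n : ℕ, ∀ a ∈ I ^ n, a • y ∈ LinearMap.range φ)
    (p₁ : M →ₗ[R] N) (p₂ : M →ₗ[R] M')
    (hcomm : ∀ m, φ (p₂ m) = (1 : S) ⊗ₜ[R] p₁ m) (hinj : ∀ m, p₁ m = 0 → p₂ m = 0 → m = 0)
    (hsurj : ∀ n x, φ x = (1 : S) ⊗ₜ[R] n → ∃ m, p₁ m = n ∧ p₂ m = x) :
    Function.Bijective (LinearMap.liftBaseChange S p₂) := by
  have hlift : ∀ z, φ (LinearMap.liftBaseChange S p₂ z) = p₁.lTensor S z := by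
    intro z
    induction z using TensorProduct.induction_on with
    | zero => simp
    | tmul s m =>
      rw [LinearMap.liftBaseChange_tmul, map_smul, hcomm, LinearMap.lTensor_tmul, TensorProduct.smul_tmul',
        smul_eq_mul, mul_one]
    | add a b ha hb => simp only [map_add, ha, hb]
  let M₀ := LinearMap.range p₁
  -- `range φ` is the base change of `range p₁`
  have hrange : ∀ x : M', ∃ z, p₁.lTensor S z = φ x := by
    intro x
    have hex := lTensor_exact S (f := p₁) (g := M₀.mkQ) (LinearMap.exact_map_mkQ_range p₁) M₀.mkQ_surjective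
    refine (hex (φ x)).1 ?_
    let C := (S ⊗[R] N) ⧸ LinearMap.range φ
    let j : (N ⧸ M₀) →ₗ[R] C := M₀.liftQ (((LinearMap.range φ).mkQ.restrictScalars R).comp (TensorProduct.mk R S N 1))
      (by
        rintro _ ⟨m, rfl⟩
        exact (Submodule.Quotient.mk_eq_zero _).2 ⟨p₂ m, hcomm m⟩)
    have hj : Function.Injective j := (injective_iff_map_eq_zero _).2 fun q hq' => by
      obtain ⟨n, rfl⟩ := M₀.mkQ_surjective q
      obtain ⟨y, hy⟩ := (Submodule.Quotient.mk_eq_zero _).1 hq'
      obtain ⟨m, hm, -⟩ := hsurj n y hy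
      exact (Submodule.Quotient.mk_eq_zero _).2 ⟨m, hm⟩
    have hC : ∀ c : C, ∃ n : ℕ, ∀ a ∈ I ^ n, a • c = 0 := fun c => by
      obtain ⟨y, rfl⟩ := Submodule.mkQ_surjective _ c
      obtain ⟨n, hn⟩ := hcoker y
      exact ⟨n, fun a ha => by
        rw [← LinearMap.map_smul_of_tower]; exact (Submodule.Quotient.mk_eq_zero _).2 (hn a ha)⟩
    apply Module.Flat.lTensor_preserves_injective_linearMap (M := S) j hj
    rw [map_zero]
    let μ : S ⊗[R] C →ₗ[S] C := LinearMap.liftBaseChange S LinearMap.id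
    have hμ : ∀ c : C, μ ((1 : S) ⊗ₜ[R] c) = c := fun c => by simp [μ]
    have hμj : ∀ w : S ⊗[R] N, μ (j.lTensor S (M₀.mkQ.lTensor S w)) = (LinearMap.range φ).mkQ w := by
      intro w
      induction w using TensorProduct.induction_on with
      | zero => simp
      | tmul s n =>
        simp only [μ, j, C, LinearMap.lTensor_tmul, LinearMap.comp_apply, Submodule.mkQ_apply,
          Submodule.liftQ_apply, LinearMap.restrictScalars_apply, LinearMap.liftBaseChange_tmul, LinearMap.id_apply,
          TensorProduct.mk_apply]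
        rw [← Submodule.Quotient.mk_smul, TensorProduct.smul_tmul', smul_eq_mul, mul_one]
      | add a b ha hb => simp only [map_add, ha, hb]
    obtain ⟨c, hc⟩ := mk_surjective_of_torsion hq hC (j.lTensor S (M₀.mkQ.lTensor S (φ x)))
    rw [← hc]
    have : c = 0 := by
      rw [← hμ c, show (1 : S) ⊗ₜ[R] c = TensorProduct.mk R S C 1 c from rfl, hc, hμj]
      exact (Submodule.Quotient.mk_eq_zero _).2 ⟨x, rfl⟩
    rw [this, map_zero]
  constructor
  · rw [injective_iff_map_eq_zero]
    intro z hz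
    have h0 : p₁.lTensor S z = 0 := by rw [← hlift, hz, map_zero]
    have hK : ∀ k : LinearMap.ker p₁, ∃ n : ℕ, ∀ a ∈ I ^ n, a • k = 0 := fun k => by
      obtain ⟨n, hn⟩ := hker (p₂ k) (by rw [hcomm, k.2, TensorProduct.tmul_zero])
      refine ⟨n, fun a ha => Subtype.ext (hinj _ ?_ ?_)⟩
      · show p₁ (a • (k : M)) = 0
        rw [map_smul, k.2, smul_zero]
      · show p₂ (a • (k : M)) = 0
        rw [map_smul, hn a ha]
    obtain ⟨w, rfl⟩ := (Module.Flat.lTensor_exact S (LinearMap.exact_subtype_ker_map p₁) z).1 h0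
    obtain ⟨k, rfl⟩ := mk_surjective_of_torsion hq hK w
    have h2 : p₂ (k : M) = 0 := by simpa using hz
    rw [show k = 0 from Subtype.ext (hinj _ k.2 h2), map_zero, map_zero]
  · intro x
    obtain ⟨z, hz⟩ := hrange x
    have h0 : φ (x - LinearMap.liftBaseChange S p₂ z) = 0 := by rw [map_sub, hlift, hz, sub_self]
    obtain ⟨m, -, hm⟩ := hsurj 0 _ (by rw [h0, TensorProduct.tmul_zero])
    exact ⟨(1 : S) ⊗ₜ[R] m + z, by rw [map_add, LinearMap.liftBaseChange_tmul, one_smul, hm, sub_add_cancel]⟩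

end Groth.Agent.FormalGlueH7
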